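import Cfsg.Agent.H461.T5.Cube
import Cfsg.Agent.H33.Tor.Facts

/-!
# S3235: the central elements of order `p` of a Sylow subgroup of order `p ^ 3` (helper14)
-/

set_option autoImplicit false

namespace Cfsg.Agent.H14.Tor

open Subgroup Cfsg.Agent.H33.Tor

universe u

variable {G : Type u} [Group G] [Finite G] {p : ℕ} [Fact p.Prime]

theorem closure_facts (h4 : ¬ p ^ 4 ∣ Nat.card G) {a b c : G} (ha : a ^ p = 1) (hb : b ^ p = 1)
    (hc : c ^ p = 1) (hc1 : c ≠ 1) (hac : a * c = c * a) (hbc : b * c = c * b) (hab : a * b = b * a * c) :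
    IsPGroup p (closure ({a, b} : Set G)) ∧ Nat.card (closure ({a, b} : Set G)) = p ^ 3 ∧
      ¬ ∀ u v : closure ({a, b} : Set G), u * v = v * u := by
  have hp : p.Prime := Fact.out
  obtain ⟨Q, hQ, haQ, hbQ⟩ := Cfsg.Agent.H573.exists_pgroup_of_class_two (p := p) (a := a) (b := b) (c := c) (i := 1) (j := 1)
    (k := 1) (by rw [pow_one, ha]) (by rw [pow_one, hb]) (by rw [pow_one, hc]) hac hbc hab
  have hle : closure ({a, b} : Set G) ≤ Q := by
    rw [closure_le]
    rintro z (rfl | rfl)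
    · exact haQ
    · exact hbQ
  have hP : IsPGroup p (closure ({a, b} : Set G)) := hQ.to_le hle
  have hna : ¬ ∀ u v : closure ({a, b} : Set G), u * v = v * u := by
    intro hcomm
    have h1 := congrArg Subtype.val (hcomm ⟨a, subset_closure (by simp)⟩ ⟨b, subset_closure (by simp)⟩)
    change a * b = b * a at h1
    rw [hab] at h1
    exact hc1 (mul_eq_left.1 h1)
  obtain ⟨n, hn⟩ := IsPGroup.iff_card.1 hP
  have hn3 : 3 ≤ n := by
    by_contra hlt
    have hn2 : n ≤ 2 := by omega
    apply hna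
    interval_cases n
    · have h1 : Subsingleton (closure ({a, b} : Set G)) := (Nat.card_eq_one_iff_unique.1 (by simpa using hn)).1
      exact fun u v => Subsingleton.elim _ _
    · have h1 : IsCyclic (closure ({a, b} : Set G)) := isCyclic_of_prime_card (p := p) (by simpa using hn)
      let _ := IsCyclic.commGroup (α := (closure ({a, b} : Set G)))
      exact fun u v => mul_comm u v
    · exact fun u v => (IsPGroup.isMulCommutative_of_card_eq_prime_sq hn).1.1 u v
  have hn4 : n < 4 := by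
    by_contra hge
    apply h4
    exact (pow_dvd_pow p (not_lt.1 hge)).trans (hn ▸ card_subgroup_dvd_card _)
  refine ⟨hP, ?_, hna⟩
  rw [hn]
  congr 1
  omega

/-- an element with centralizer of order divisible by `p ^ 3` is conjugate to a power of `c` -/
theorem exists_conj_pow (h4 : ¬ p ^ 4 ∣ Nat.card G) {a b c : G} (ha : a ^ p = 1) (hb : b ^ p = 1)
    (hc : c ^ p = 1) (hc1 : c ≠ 1) (hac : a * c = c * a) (hbc : b * c = c * b) (hab : a * b = b * a * c)
    {x : G} (hx : orderOf x = p) (h3 : p ^ 3 ∣ Nat.card (centralizer ({x} : Set G))) :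
    ∃ (g : G) (k : ℕ), g * x * g⁻¹ = c ^ k := by
  have hp : p.Prime := Fact.out
  obtain ⟨hK, hKc, hna⟩ := closure_facts h4 ha hb hc hc1 hac hbc hab
  set K := closure ({a, b} : Set G) with hKdef
  -- a Sylow subgroup of the centralizer
  let R : Sylow p (centralizer ({x} : Set G)) := default
  have hR4 : ¬ p ^ 4 ∣ Nat.card (centralizer ({x} : Set G)) := fun h => h4 (h.trans (card_subgroup_dvd_card _))
  have hRc : Nat.card (R : Subgroup (centralizer ({x} : Set G))) = p ^ 3 := Cfsg.Agent.H573.card_sylow_of R h3 hR4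
  have hxC : x ∈ centralizer ({x} : Set G) := mem_centralizer_singleton_iff.2 rfl
  let x' : centralizer ({x} : Set G) := ⟨x, hxC⟩
  have hxc : ∀ y : centralizer ({x} : Set G), x' * y = y * x' := fun y =>
    Subtype.ext (mem_centralizer_singleton_iff.1 y.2).symm
  have hxR : x' ∈ (R : Subgroup (centralizer ({x} : Set G))) := by
    have h1 : IsPGroup p (zpowers x') := by
      refine IsPGroup.of_card (n := 1) ?_
      rw [Nat.card_zpowers, pow_one, ← hx]
      exact Subgroup.orderOf_mk _ _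
    have h2 : (zpowers x').Normal := by
      refine ⟨fun y hy g => ?_⟩
      obtain ⟨k, rfl⟩ := mem_zpowers_iff.1 hy
      have h3 : g * x' ^ k * g⁻¹ = x' ^ k := by
        have h4 : Commute (x' ^ k) g := Commute.zpow_left (hxc g) k
        rw [← h4.eq, mul_inv_cancel_right]
      rw [h3]
      exact zpow_mem (mem_zpowers x') k
    exact (h1.le_sylow_of_normal R) (mem_zpowers x')
  let R' : Subgroup G := (R : Subgroup (centralizer ({x} : Set G))).map (centralizer ({x} : Set G)).subtype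
  have hR' : IsPGroup p R' := R.isPGroup'.map _
  have hR'c : Nat.card R' = p ^ 3 := (Subgroup.card_subtype _ _).trans hRc
  have hxR' : x ∈ R' := ⟨x', hxR, rfl⟩
  have hcR' : ∀ y ∈ R', y * x = x * y := by
    rintro _ ⟨y, -, rfl⟩
    exact mem_centralizer_singleton_iff.1 y.2
  -- conjugation into `K`
  obtain ⟨S, hS⟩ := hK.exists_le_sylow
  obtain ⟨S', hS'⟩ := hR'.exists_le_sylow
  have hcardS : ∀ T : Sylow p G, Nat.card (T : Subgroup G) ≤ p ^ 3 := by
    intro T
    obtain ⟨n, hn⟩ := IsPGroup.iff_card.1 T.isPGroup'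
    rw [hn]
    apply Nat.pow_le_pow_right hp.pos
    by_contra hge
    apply h4
    exact (pow_dvd_pow p (by omega)).trans (hn ▸ card_subgroup_dvd_card _)
  have e1 : K = S := eq_of_le_of_card_ge hS (by rw [hKc]; exact hcardS S)
  have e2 : R' = S' := eq_of_le_of_card_ge hS' (by rw [hR'c]; exact hcardS S')
  obtain ⟨g, hg⟩ := MulAction.exists_smul_eq G S' S
  have hmem : ∀ y ∈ R', g * y * g⁻¹ ∈ K := by
    intro y hy
    rw [e1, ← hg, Sylow.coe_subgroup_smul]
    rw [e2] at hy
    exact ⟨y, hy, rfl⟩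
  have hmem' : ∀ y ∈ K, g⁻¹ * y * g ∈ R' := by
    intro y hy
    rw [e1, ← hg, Sylow.coe_subgroup_smul] at hy
    obtain ⟨z, hz, hzy⟩ := hy
    have hzy' : g * z * g⁻¹ = y := hzy
    have h1 : g⁻¹ * y * g = z := by rw [← hzy']; group
    rw [h1, e2]
    exact hz
  have hZ := Cfsg.Agent.H573.card_center_cube hKc hna
  have hcK : c ∈ K := by
    have h1 : c = (b * a)⁻¹ * (a * b) := by rw [hab]; group
    rw [h1]
    have ha' : a ∈ K := subset_closure (by simp)
    have hb' : b ∈ K := subset_closure (by simp)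
    exact mul_mem (inv_mem (mul_mem hb' ha')) (mul_mem ha' hb')
  have hcc : ∀ y ∈ K, y * c = c * y := by
    intro y hy
    have h1 : K ≤ centralizer ({c} : Set G) := by
      rw [hKdef, closure_le]
      rintro z (rfl | rfl)
      · exact mem_centralizer_singleton_iff.2 hac
      · exact mem_centralizer_singleton_iff.2 hbc
    exact mem_centralizer_singleton_iff.1 (h1 hy)
  let c' : center K := ⟨⟨c, hcK⟩, mem_center_iff.2 fun y => Subtype.ext (hcc y y.2)⟩
  have hc' : c' ≠ 1 := fun h => hc1 (congrArg (fun z : center K => ((z : K) : G)) h)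
  have hpr : Fact (Nat.Prime (Nat.card (center K))) := ⟨by rw [hZ]; exact hp⟩
  have hz : zpowers c' = ⊤ := zpowers_eq_top_of_prime_card (p := Nat.card (center K)) rfl hc'
  let y' : center K := ⟨⟨g * x * g⁻¹, hmem x hxR'⟩, mem_center_iff.2 fun y => Subtype.ext (by
    show (y : G) * (g * x * g⁻¹) = g * x * g⁻¹ * (y : G)
    have h1 := hcR' _ (hmem' y y.2)
    calc (y : G) * (g * x * g⁻¹) = g * (g⁻¹ * (y : G) * g * x) * g⁻¹ := by group
      _ = g * (x * (g⁻¹ * (y : G) * g)) * g⁻¹ := by rw [h1]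
      _ = g * x * g⁻¹ * (y : G) := by group)⟩
  have hy' : y' ∈ zpowers c' := by rw [hz]; exact mem_top _
  obtain ⟨k, hk⟩ := mem_powers_iff_mem_zpowers.2 hy'
  refine ⟨g, k, ?_⟩
  exact (congrArg (fun z : center K => ((z : K) : G)) hk).symm

/-- an involution commuting with `c` -/
theorem ev_of_central (h4 : ¬ p ^ 4 ∣ Nat.card G) {a b c t : G} (ha : a ^ p = 1) (hb : b ^ p = 1)
    (hc : c ^ p = 1) (hc1 : c ≠ 1) (hac : a * c = c * a) (hbc : b * c = c * b) (hab : a * b = b * a * c)
    (ht : orderOf t = 2) (htc : t * c = c * t)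
    {x : G} (hx : orderOf x = p) (h3 : p ^ 3 ∣ Nat.card (centralizer ({x} : Set G))) : Ev x := by
  obtain ⟨g, k, hg⟩ := exists_conj_pow h4 ha hb hc hc1 hac hbc hab hx h3
  refine ⟨g⁻¹ * t * g, ?_, ?_⟩
  · have h1 := orderOf_injective (MulAut.conj g⁻¹).toMonoidHom (MulAut.conj g⁻¹).injective t
    rw [← ht, ← h1]
    simp
  · have h1 : x = g⁻¹ * c ^ k * g := by rw [← hg]; group
    have h2 : t * c ^ k = c ^ k * t := (Commute.pow_right (show Commute t c from htc) k).eq
    rw [h1]
    calc g⁻¹ * t * g * (g⁻¹ * c ^ k * g) = g⁻¹ * (t * c ^ k) * g := by group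
      _ = g⁻¹ * (c ^ k * t) * g := by rw [h2]
      _ = g⁻¹ * c ^ k * g * (g⁻¹ * t * g) := by group

/-- **the facts for a Sylow subgroup of order `p ^ 3`**, `4 ^ k ≡ -1 (mod p)` -/
theorem facts_of_central (h4 : ¬ p ^ 4 ∣ Nat.card G) {a b c t : G} (ha : a ^ p = 1) (hb : b ^ p = 1)
    (hc : c ^ p = 1) (hc1 : c ≠ 1) (hac : a * c = c * a) (hbc : b * c = c * b) (hab : a * b = b * a * c)
    (ht : orderOf t = 2) (htc : t * c = c * t) {k m B N : ℕ} (hk : p ∣ 4 ^ k + 1) (hN : Nat.card G = N)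
    (hz : ∀ z : G, orderOf z = 2 → Nat.card (centralizer ({z} : Set G)) ≤ B)
    (hm : ∀ x : G, orderOf x = p → Odd (Nat.card (centralizer ({x} : Set G))) →
      ¬ p ^ 3 ∣ Nat.card (centralizer ({x} : Set G)) → Nat.card (centralizer ({x} : Set G)) ≤ m)
    (hlt : m ^ 2 * (1 + B) < N) : Facts p G := by
  intro x hx
  by_cases h2 : 2 ∣ Nat.card (centralizer ({x} : Set G))
  · exact Or.inl (Ev.of_even h2)
  by_cases h3 : p ^ 3 ∣ Nat.card (centralizer ({x} : Set G))
  · exact Or.inl (ev_of_central h4 ha hb hc hc1 hac hbc hab ht htc hx h3)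
  · right; right
    exact Iv.of_le (hm x hx (Nat.not_even_iff_odd.1 fun h => h2 h.two_dvd) h3) hz hN k hk hlt

end Cfsg.Agent.H14.Tor
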