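import Cfsg.Agent.H573.Spor.HSFive
import Cfsg.Agent.H573.Spor.McLFive

/-!
# Involutions of `HS` and `McL` commuting with a central element of order 5 of a Sylow subgroup (helper14)

Generated by a script; checked by the kernel.
-/

set_option autoImplicit false
set_option maxRecDepth 100000

namespace Cfsg.Agent.H14.Tor

open Cfsg Cfsg.Agent.SporadicA Cfsg.Agent.SporadicStructure.Co0Matrix Cfsg.Agent.CoOneType.CoEval
open Cfsg.Agent.LThreeCo1.Ev Cfsg.Agent.LThreeMB.Fix Cfsg.Agent.H573.Spor.Co0

namespace HSInv

open Cfsg.Agent.H573.Spor.HSFive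

def nT : ℕ := 0xb425094210842108421094a1084a4e84a0e83a4e949d273a528425294210942d074210842108421073a10839d283a12839ce93a4e94a528425294210941d0b4210842108421073a10839d283a0e849d2949d2949d2842527421084a0e83a5273a5294a4e842527421083a0e84a5294a4e93a4e8424e9421084a12849d2939d274a4e8424e9421084a0e849d274a4e74a52841d29421083a1283a5274a52749d28424e9421084a0e84a4e93a52949d2841ce9421083a1284a52739d293a52841d29421083a1284a4e94a5274a4e841d27421084a1283a52949ce94a52841ce7421084a12849ce74a5293a528424e74210941d074210842108421075a10839d2941d0742108421084210b3a10839d284a1284a5293a4e739d2842527421084a1284a4e749ce949ce842529421084a12839d294a52939ce841d294210941d074210842108421073a10859d2941d074210842108421073a1083ad27425094210842108421094a1084a56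

theorem okT : okN nT = true := by decide +kernel

def gT : Co0 := mk (ok_of_okN okT)
theorem repT : Rep gT (dec nT) := rep_mk _

/-- the elements -/
def e : ℕ → Co0
  | 0 => gT
  | _ => gC

/-- their matrices -/
def Ms : ℕ → List (List ℤ)
  | 0 => dec nT
  | _ => dec nC

theorem hM : ∀ i, Rep (e i) (Ms i)
  | 0 => repT
  | _ + 1 => repC

theorem t_sq : gT ^ 2 = 1 := by
  have h := eq_of_eqB hM (w := [0, 0]) (w' := []) (by decide +kernel)
  simpa [e, pow_succ, mul_assoc] using h
theorem t_ne : gT ≠ 1 := by
  have h := ne_of_neB' hM (w := [0]) (w' := []) (by decide +kernel)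
  simpa [e, pow_succ, mul_assoc] using h
theorem tc : gT * gC = gC * gT := by
  have h := eq_of_eqB hM (w := [0, 1]) (w' := [1, 0]) (by decide +kernel)
  simpa [e, pow_succ, mul_assoc] using h

theorem memT : gT.1 ∈ Spor.HS := mem_HS repT (by decide +kernel) (by decide +kernel)

end HSInv

namespace McLInv

open Cfsg.Agent.H573.Spor.McLFive

def nT : ℕ := 0xb4252842108421084a10942507421284a1093a5274a529425283a0e839d0941ce842108421083a10b41d09420e941d6842108421083a10741d09420e84a10939ce949d29424e84a1283a5083a1074a52749d29424e84a0e84a5084a1074a5293a527424e83a1283a5084a1074a52949ce941d284a12839d083a1093a52939d27425284a12849d084a10949d274a52741ce84a12849d084a1073a4e74a4e7425284a1284a5084a1094a4e949d2741d283a0e84a5084a10949d2739ce9425283a1284a50941ce842108421085a10741d09420e84a1094a4e93a4e9424e84a0e849d084a10739d293a52941d284a0e84a50942ce842108421083a10741d09420e83a10949d294a4e7425284a0e83a50941ce842108421083a10742d09420e83a1093a5294a4e941ce83a1284a5074252842108421084a1094250b421283a10749ce94a529425283a12849d083a1094a4e73a52941d284a1283a50941ce842108421083a10741d094216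

theorem okT : okN nT = true := by decide +kernel

def gT : Co0 := mk (ok_of_okN okT)
theorem repT : Rep gT (dec nT) := rep_mk _

/-- the elements -/
def e : ℕ → Co0
  | 0 => gT
  | _ => gC

/-- their matrices -/
def Ms : ℕ → List (List ℤ)
  | 0 => dec nT
  | _ => dec nC

theorem hM : ∀ i, Rep (e i) (Ms i)
  | 0 => repT
  | _ + 1 => repC

theorem t_sq : gT ^ 2 = 1 := by
  have h := eq_of_eqB hM (w := [0, 0]) (w' := []) (by decide +kernel)
  simpa [e, pow_succ, mul_assoc] using h
theorem t_ne : gT ≠ 1 := by
  have h := ne_of_neB' hM (w := [0]) (w' := []) (by decide +kernel)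
  simpa [e, pow_succ, mul_assoc] using h
theorem tc : gT * gC = gC * gT := by
  have h := eq_of_eqB hM (w := [0, 1]) (w' := [1, 0]) (by decide +kernel)
  simpa [e, pow_succ, mul_assoc] using h

theorem memT : gT.1 ∈ Spor.McL := mem_McL repT (by decide +kernel) (by decide +kernel)

end McLInv

end Cfsg.Agent.H14.Tor
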