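import Cfsg.Agent.H14.Tor.Cube
import Cfsg.Agent.H14.Tor.InvData
import Cfsg.Agent.H647.SpF.HSMcL
import Cfsg.Agent.H904.HSCent

/-!
# S3235: the facts for `HS` and `McL` (helper14)
-/

set_option autoImplicit false

namespace Cfsg.Agent.H14.Tor

open Subgroup Cfsg Cfsg.Agent.H33.Tor

universe u

/-- divisors -/
theorem le_of_dvd_375 {c : ℕ} (h : c ∣ 2 ^ 5 * 3 * 5 ^ 3) (hodd : Odd c) (h5 : ¬ 5 ^ 3 ∣ c) : c ≤ 75 := by
  have h1 : c ∣ 375 := by
    have h2 : c ∣ 2 ^ 5 * 375 := by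
      have e : 2 ^ 5 * 375 = 2 ^ 5 * 3 * 5 ^ 3 := by norm_num
      rw [e]; exact h
    have h3 : Nat.Coprime c (2 ^ 5) := (Nat.coprime_two_right.2 hodd).pow_right 5
    exact h3.dvd_of_dvd_mul_left h2
  have h4 : c ∈ Nat.divisors 375 := Nat.mem_divisors.2 ⟨h1, by norm_num⟩
  have h6 : ∀ c ∈ Nat.divisors 375, ¬ 5 ^ 3 ∣ c → c ≤ 75 := by decide +kernel
  exact h6 c h4 h5

/-- no elements of order `p` -/
theorem facts_of_not_dvd {p : ℕ} {G : Type u} [Group G] (h : ¬ p ∣ Nat.card G) : Facts p G :=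
  fun x hx => absurd (hx ▸ orderOf_dvd_natCard x) h

section Co0

variable {X : Subgroup (Equiv.Perm leechLattice)} {n : ℕ}

theorem val_pow {g : Co0} (h : g ^ n = 1) (hg : g.1 ∈ X) : (⟨g.1, hg⟩ : X) ^ n = 1 :=
  Subtype.ext (show g.1 ^ n = 1 from congrArg Subtype.val h)

theorem val_ne {g : Co0} (h : g ≠ 1) (hg : g.1 ∈ X) : (⟨g.1, hg⟩ : X) ≠ 1 := fun h' =>
  h (Subtype.ext (show g.1 = 1 from congrArg Subtype.val h'))

theorem val_comm {g k : Co0} (h : g * k = k * g) (hg : g.1 ∈ X) (hk : k.1 ∈ X) :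
    (⟨g.1, hg⟩ : X) * ⟨k.1, hk⟩ = ⟨k.1, hk⟩ * ⟨g.1, hg⟩ :=
  Subtype.ext (show g.1 * k.1 = k.1 * g.1 from congrArg Subtype.val h)

theorem val_rel {g k l : Co0} (h : g * k = k * g * l) (hg : g.1 ∈ X) (hk : k.1 ∈ X) (hl : l.1 ∈ X) :
    (⟨g.1, hg⟩ : X) * ⟨k.1, hk⟩ = ⟨k.1, hk⟩ * ⟨g.1, hg⟩ * ⟨l.1, hl⟩ :=
  Subtype.ext (show g.1 * k.1 = k.1 * g.1 * l.1 from congrArg Subtype.val h)

end Co0

/-! ### HS -/

namespace HS

theorem five : Facts 5 Spor.HS := by
  have := Cfsg.Agent.H647.SpF.HS.finite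
  have : Fact (Nat.Prime 5) := ⟨by norm_num⟩
  have hc := Cfsg.Agent.H647.SpF.HS.card
  refine facts_of_central (p := 5) (by rw [hc]; norm_num) (a := ⟨_, H573.Spor.HSFive.memA⟩) (b := ⟨_, H573.Spor.HSFive.memB⟩)
    (c := ⟨_, H573.Spor.HSFive.memC⟩) (t := ⟨_, HSInv.memT⟩) (val_pow H573.Spor.HSFive.a_pow _)
    (val_pow H573.Spor.HSFive.b_pow _) (val_pow H573.Spor.HSFive.c_pow _) (val_ne H573.Spor.HSFive.c_ne _)
    (val_comm H573.Spor.HSFive.ac _ _) (val_comm H573.Spor.HSFive.bc _ _) (val_rel H573.Spor.HSFive.ab _ _ _)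
    (orderOf_eq_prime (p := 2) (val_pow HSInv.t_sq _) (val_ne HSInv.t_ne _))
    (val_comm HSInv.tc _ _) (k := 1) (m := 75) (B := 7680) (by norm_num) hc ?_ ?_ (by norm_num)
  · intro z hz
    obtain ⟨D⟩ := KFacts.HS.exists_mod (L := Spor.HS) ⟨MulEquiv.refl _⟩
    have hzz : z * z = 1 := by rw [← pow_two, ← hz, pow_orderOf_eq_one]
    have hz1 : z ≠ 1 := by
      rintro rfl
      rw [orderOf_one] at hz
      omega
    rcases KFacts.HS.DFour.inv_cases D z hzz hz1 with ⟨c, h⟩ | ⟨c, h⟩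
    · rw [← h, H904.HSCent.card_centralizer_conj, H904.HSCent.card_zA]
    · rw [← h, H904.HSCent.card_centralizer_conj]
      exact (KFacts.HS.DFour.card_C D).trans (by norm_num)
  · intro x hx hodd h3
    exact le_of_dvd_375 (Cfsg.Agent.H647.SpF.HS.five hx) hodd h3

theorem seven : Facts 7 Spor.HS := by
  have := Cfsg.Agent.H647.SpF.HS.finite
  have hc := Cfsg.Agent.H647.SpF.HS.card
  obtain ⟨D, ψ, R⟩ := H904.HSCent.exists_rep (L := Spor.HS) ⟨MulEquiv.refl _⟩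
  obtain ⟨y, hy, hle⟩ := R.exists_seven
  intro x hx
  have h1 : Nat.card (centralizer ({x} : Set Spor.HS)) ≤ 14 := by
    rw [Cfsg.Agent.H647.SpF.card_cent_eq_of_prime (r := 7) (m := 6336000) (by norm_num) (by rw [hc]) (by norm_num) hx hy]
    exact hle
  have h2 : 7 ∣ Nat.card (centralizer ({x} : Set Spor.HS)) := by
    have := Cfsg.Agent.H647.SpF.dvd_cent (x := x) (y := x) rfl
    rwa [hx] at this
  have h3 : 0 < Nat.card (centralizer ({x} : Set Spor.HS)) := Nat.card_pos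
  obtain ⟨k, hk⟩ := h2
  have hk2 : k = 1 ∨ k = 2 := by omega
  rcases hk2 with rfl | rfl
  · exact Or.inr (Or.inl (Sm.of_card (by norm_num) (by norm_num) (by rw [hk]) (by rw [hc]; norm_num)))
  · exact Or.inl (Ev.of_even (by rw [hk]; norm_num))

theorem eleven : Facts 11 Spor.HS :=
  Facts.self (by norm_num) (by norm_num) (fun x hx => Cfsg.Agent.H647.SpF.HS.sc_eleven x hx)
    (by rw [Cfsg.Agent.H647.SpF.HS.card]; norm_num)

end HS

theorem facts_hs {p : ℕ} (hp : p.Prime) (hp5 : 5 ≤ p) {G : Type u} [Group G] (h : Spor.IsoHS G) : Facts p G := by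
  obtain ⟨e⟩ := h
  by_cases hd : p ∣ Nat.card G
  · rw [Nat.card_congr e.toEquiv, Cfsg.Agent.H647.SpF.HS.card] at hd
    have h1 : p = 5 ∨ p = 7 ∨ p = 11 := by
      have h2 : p ∣ 2 ^ 9 * 3 ^ 2 * 5 ^ 3 * 7 * 11 := by
        have e : 2 ^ 9 * 3 ^ 2 * 5 ^ 3 * 7 * 11 = 44352000 := by norm_num
        rw [e]; exact hd
      have key : ∀ {q k : ℕ}, q.Prime → p ∣ q ^ k → p = q := fun hq h =>
        (Nat.prime_dvd_prime_iff_eq hp hq).1 (hp.dvd_of_dvd_pow h)
      rcases hp.dvd_mul.1 h2 with h2 | h2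
      · rcases hp.dvd_mul.1 h2 with h2 | h2
        · rcases hp.dvd_mul.1 h2 with h2 | h2
          · rcases hp.dvd_mul.1 h2 with h2 | h2
            · have := key Nat.prime_two h2; omega
            · have := key Nat.prime_three h2; omega
          · exact Or.inl (key Nat.prime_five h2)
        · exact Or.inr (Or.inl ((Nat.prime_dvd_prime_iff_eq hp (by norm_num)).1 h2))
      · exact Or.inr (Or.inr ((Nat.prime_dvd_prime_iff_eq hp (by norm_num)).1 h2))
    rcases h1 with rfl | rfl | rfl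
    · exact HS.five.congr e.symm
    · exact HS.seven.congr e.symm
    · exact HS.eleven.congr e.symm
  · exact facts_of_not_dvd hd

/-! ### McL -/

namespace McL

theorem five : Facts 5 Spor.McL := by
  have := Cfsg.Agent.H647.SpF.McL.finite
  have : Fact (Nat.Prime 5) := ⟨by norm_num⟩
  have hc := Cfsg.Agent.H647.SpF.McL.card
  refine facts_of_central (p := 5) (by rw [hc]; norm_num) (a := ⟨_, H573.Spor.McLFive.memA⟩)
    (b := ⟨_, H573.Spor.McLFive.memB⟩)
    (c := ⟨_, H573.Spor.McLFive.memC⟩) (t := ⟨_, McLInv.memT⟩) (val_pow H573.Spor.McLFive.a_pow _)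
    (val_pow H573.Spor.McLFive.b_pow _) (val_pow H573.Spor.McLFive.c_pow _) (val_ne H573.Spor.McLFive.c_ne _)
    (val_comm H573.Spor.McLFive.ac _ _) (val_comm H573.Spor.McLFive.bc _ _) (val_rel H573.Spor.McLFive.ab _ _ _)
    (orderOf_eq_prime (p := 2) (val_pow McLInv.t_sq _) (val_ne McLInv.t_ne _))
    (val_comm McLInv.tc _ _) (k := 1) (m := 75) (B := 40320) (by norm_num) hc ?_ ?_ (by norm_num)
  · intro z hz
    obtain ⟨-, -, -, ⟨L⟩⟩ := Cfsg.Agent.H848.McLLocal.facts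
    rw [Cfsg.Agent.H848.McLLocal.card_t L hz]
  · intro x hx hodd h3
    exact le_of_dvd_375 (Cfsg.Agent.H647.SpF.McL.five hx) hodd h3

theorem seven : Facts 7 Spor.McL := by
  have := Cfsg.Agent.H647.SpF.McL.finite
  exact Facts.even fun x hx => by rw [Cfsg.Agent.H647.SpF.McL.seven hx]; norm_num

theorem eleven : Facts 11 Spor.McL :=
  Facts.self (by norm_num) (by norm_num) (fun x hx => Cfsg.Agent.H647.SpF.McL.sc_eleven x hx)
    (by rw [Cfsg.Agent.H647.SpF.McL.card]; norm_num)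

end McL

theorem facts_mcl {p : ℕ} (hp : p.Prime) (hp5 : 5 ≤ p) {G : Type u} [Group G] (h : Spor.IsoMcL G) : Facts p G := by
  obtain ⟨e⟩ := h
  by_cases hd : p ∣ Nat.card G
  · rw [Nat.card_congr e.toEquiv, Cfsg.Agent.H647.SpF.McL.card] at hd
    have h1 : p = 5 ∨ p = 7 ∨ p = 11 := by
      have h2 : p ∣ 2 ^ 7 * 3 ^ 6 * 5 ^ 3 * 7 * 11 := by
        have e : 2 ^ 7 * 3 ^ 6 * 5 ^ 3 * 7 * 11 = 898128000 := by norm_num
        rw [e]; exact hd
      have key : ∀ {q k : ℕ}, q.Prime → p ∣ q ^ k → p = q := fun hq h =>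
        (Nat.prime_dvd_prime_iff_eq hp hq).1 (hp.dvd_of_dvd_pow h)
      rcases hp.dvd_mul.1 h2 with h2 | h2
      · rcases hp.dvd_mul.1 h2 with h2 | h2
        · rcases hp.dvd_mul.1 h2 with h2 | h2
          · rcases hp.dvd_mul.1 h2 with h2 | h2
            · have := key Nat.prime_two h2; omega
            · have := key Nat.prime_three h2; omega
          · exact Or.inl (key Nat.prime_five h2)
        · exact Or.inr (Or.inl ((Nat.prime_dvd_prime_iff_eq hp (by norm_num)).1 h2))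
      · exact Or.inr (Or.inr ((Nat.prime_dvd_prime_iff_eq hp (by norm_num)).1 h2))
    rcases h1 with rfl | rfl | rfl
    · exact McL.five.congr e.symm
    · exact McL.seven.congr e.symm
    · exact McL.eleven.congr e.symm
  · exact facts_of_not_dvd hd

end Cfsg.Agent.H14.Tor
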