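import Cfsg.Agent.H33.Tor.Facts
import Cfsg.Agent.H797.T5.HeSev
import Cfsg.Agent.H436.HeFive

/-!
# S3235: the facts for `He` (helper14)
-/

set_option autoImplicit false
set_option maxRecDepth 100000

namespace Cfsg.Agent.H14.Tor

open Subgroup Cfsg Cfsg.Agent.H33.Tor

universe u

theorem ev_of_zpowers {G : Type u} [Group G] {x y u : G} (h : u * x * u⁻¹ ∈ zpowers y) (hy : Ev y) : Ev x := by
  obtain ⟨z, hz, h1⟩ := hy
  refine ⟨u⁻¹ * z * u, ?_, ?_⟩
  · have h2 := Cfsg.Agent.CpAutHe.Seven.orderOf_conj' u⁻¹ z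
    rwa [inv_inv, hz] at h2
  · obtain ⟨k, hk⟩ := mem_zpowers_iff.1 h
    have h2 : z * y ^ k = y ^ k * z := (Commute.zpow_right (show Commute z y from h1) k).eq
    have h3 : x = u⁻¹ * y ^ k * u := by rw [hk]; group
    rw [h3]
    calc u⁻¹ * z * u * (u⁻¹ * y ^ k * u) = u⁻¹ * (z * y ^ k) * u := by group
      _ = u⁻¹ * (y ^ k * z) * u := by rw [h2]
      _ = u⁻¹ * y ^ k * u * (u⁻¹ * z * u) := by group

theorem card_cent_equiv {L : Type*} {M : Type*} [Group L] [Group M] (f : L ≃* M) (b : L) :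
    Nat.card ↥(centralizer ({b} : Set L)) = Nat.card ↥(centralizer ({f b} : Set M)) := by
  have h : (centralizer ({b} : Set L)).map f.toMonoidHom = centralizer ({f b} : Set M) := by
    ext x
    constructor
    · rintro ⟨y, hy, rfl⟩
      rw [mem_centralizer_singleton_iff]
      change f y * f b = f b * f y
      rw [← map_mul, ← map_mul, mem_centralizer_singleton_iff.1 hy]
    · intro hx
      refine ⟨f.symm x, ?_, f.apply_symm_apply x⟩
      refine mem_centralizer_singleton_iff.2 ?_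
      apply f.injective
      rw [map_mul, map_mul, f.apply_symm_apply]
      exact mem_centralizer_singleton_iff.1 hx
  rw [← h]
  exact Nat.card_congr ((centralizer ({b} : Set L)).equivMapOfInjective f.toMonoidHom f.injective).toEquiv

namespace He

open Cfsg.Spor.He (Gen)
open Cfsg.Agent.SporadicB.HePerm hiding wd
open Cfsg.Agent.SporadicB.HePerm (act wd)
open Cfsg.Agent.FixBN.HeStab Cfsg.Agent.KFacts.He.Lv Cfsg.Agent.CpAutHe.Cnt
open Cfsg.Agent.CpAutHe.Seven (card_cent_le card_cent_conj orderOf_conj')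
open Cfsg.Agent.FixBN.HeCent (P₁ P₂ Z P₁_pow P₂_pow Z_pow comm_P₂_Z comm_P₁_Z P₂_P₁ H_P₂)
open Cfsg.Agent.FixBN.HeData (p1W p2W zW)
open Cfsg.Agent.FixBN.HeSB (P isPGroup_P)
open Cfsg.Agent.H797.T5.HeSev
open Cfsg.Agent.H797.T5 (Extra.conj_rep Extra.conj_rep')

theorem five : Facts 5 Cfsg.Spor.He := by
  intro x hx
  obtain ⟨u, hu⟩ := Cfsg.Agent.H436.HeFive.exists_conj hx
  exact Or.inl (ev_of_zpowers hu ⟨_, Cfsg.Agent.H436.HeFive.orderA, Cfsg.Agent.H436.HeFive.commA⟩)

theorem seventeen : Facts 17 Cfsg.Spor.He :=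
  Facts.self (by norm_num) (by norm_num) (fun x hx => Nat.dvd_antisymm
    (by simpa using Cfsg.Agent.H436.HeFive.cent17 x hx)
    (by
      have h3 : x ∈ centralizer ({x} : Set Cfsg.Spor.He) := mem_centralizer_singleton_iff.2 rfl
      have := Subgroup.orderOf_dvd_natCard _ h3
      rwa [hx] at this)) (by rw [card_he]; norm_num)

theorem ev_of_inv {x : Cfsg.Spor.He} {t : List Gen} (i : Fin 2058)
    (h1 : Nat.beq (act t i) i = false) (h2 : chkB (t ++ t) [] = true) (h3 : wd t * x = x * wd t) : Ev x := by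
  have h4 : (wd t) ^ 2 = 1 := by
    have h := eq_of_chkB h2
    rw [Cfsg.Agent.FixBN.HeCent.wd_append] at h
    rw [pow_two, h]
    rfl
  have h5 : wd t ≠ 1 := CpAutHe.Seven.ne_one_of_act i h1
  exact ⟨wd t, orderOf_eq_prime h4 h5, h3⟩

/-- the representatives -/
theorem rep_cases {s : ℕ} (hs : s < 7) : Ev (P₁ * P₂ ^ s) ∨ ∃ g : Cfsg.Spor.He, g * (P₁ * P₂ ^ s) * g⁻¹ ∈ zpowers Z := by
  interval_cases s
  · exact Or.inr ⟨wd g0, by rw [conj_of_chk (g := g0) (k := 1) (by decide +kernel)]; exact npow_mem_zpowers _ _⟩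
  · exact Or.inl (ev_of_inv (t := t1) 5 (by decide +kernel) (by decide +kernel) (comm_of_chk (by decide +kernel)))
  · exact Or.inl (ev_of_inv (t := t2) 5 (by decide +kernel) (by decide +kernel) (comm_of_chk (by decide +kernel)))
  · exact Or.inr ⟨wd g3, by rw [conj_of_chk (g := g3) (k := 5) (by decide +kernel)]; exact npow_mem_zpowers _ _⟩
  · exact Or.inl (ev_of_inv (t := t4) 5 (by decide +kernel) (by decide +kernel) (comm_of_chk (by decide +kernel)))
  · exact Or.inl (ev_of_inv (t := t5) 5 (by decide +kernel) (by decide +kernel) (comm_of_chk (by decide +kernel)))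
  · exact Or.inl (ev_of_inv (t := t6) 5 (by decide +kernel) (by decide +kernel) (comm_of_chk (by decide +kernel)))

/-- **an element of order 7 commutes with an involution or is conjugate to a power of `Z`** -/
theorem seven_cases {x : Cfsg.Spor.He} (hx : orderOf x = 7) : Ev x ∨ ∃ g : Cfsg.Spor.He, g * x * g⁻¹ ∈ zpowers Z := by
  have h7 : Fact (Nat.Prime 7) := ⟨by norm_num⟩
  obtain ⟨g, hg⟩ := H533.T5.exists_conj_mem_of_index index_P hx
  obtain ⟨a, b, c, e⟩ := mem_NF.1 (P_le hg)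
  by_cases ha : 7 ∣ a
  · have ha1 : P₁ ^ a = 1 := by
      obtain ⟨k, rfl⟩ := ha
      rw [pow_mul, P₁_pow, one_pow]
    rw [ha1, one_mul] at e
    by_cases hb : 7 ∣ b
    · have hb1 : P₂ ^ b = 1 := by
        obtain ⟨k, rfl⟩ := hb
        rw [pow_mul, P₂_pow, one_pow]
      rw [hb1, one_mul] at e
      exact Or.inr ⟨g, by rw [e]; exact npow_mem_zpowers _ _⟩
    · obtain ⟨u, hu⟩ := Extra.conj_rep' P₂_P₁ cZ2 cZ1 Z_pow hb c
      rw [← e] at hu
      obtain ⟨m, hm⟩ := mem_zpowers_iff.1 hu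
      refine Or.inr ⟨Cfsg.Agent.FixBN.HeCent.H * u * g, ?_⟩
      have h2 : (Cfsg.Agent.FixBN.HeCent.H * u * g) * x * (Cfsg.Agent.FixBN.HeCent.H * u * g)⁻¹ =
          Cfsg.Agent.FixBN.HeCent.H * (u * (g * x * g⁻¹) * u⁻¹) * Cfsg.Agent.FixBN.HeCent.H⁻¹ := by group
      rw [h2, ← hm, ← conj_zpow, H_P₂, mul_inv_cancel_right]
      exact zpow_mem (mem_zpowers _) _
  · obtain ⟨s, hs, u, hu⟩ := Extra.conj_rep P₂_P₁ cZ2 cZ1 P₂_pow Z_pow ha b c
    rw [← e] at hu
    have h2 : u * g * x * (u * g)⁻¹ = u * (g * x * g⁻¹) * u⁻¹ := by group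
    rcases rep_cases hs with h | ⟨k, hk⟩
    · exact Or.inl (ev_of_zpowers (u := u * g) (by rw [h2]; exact hu) h)
    · obtain ⟨m, hm⟩ := mem_zpowers_iff.1 hu
      refine Or.inr ⟨k * (u * g), ?_⟩
      have h3 : k * (u * g) * x * (k * (u * g))⁻¹ = (k * (P₁ * P₂ ^ s) * k⁻¹) ^ m := by
        rw [conj_zpow, hm]; group
      rw [h3]
      exact zpow_mem hk _

/-! ### The centralizer of `Z` -/

/-- an element of order 21 -/
def gW : List Gen := [.c, .b, .c, .a, .c, .d]

/-- it conjugates the cube of the element of order 21 to `Z ^ 2` -/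
def uW : List Gen := [.d, .b, .f, .d, .g, .f, .b, .e, .d, .g, .a, .c, .d, .a, .c, .b, .g, .f, .d, .f, .a, .c, .f, .d, .g,
  .d, .f, .c, .d, .a, .e, .g, .e, .a]

theorem chk_g : chkB (pw gW 21) [] = true := by decide +kernel
theorem chk_u : chkB (uW ++ pw gW 3) (pw zW 2 ++ uW) = true := by decide +kernel
theorem act_g : Nat.beq (act (pw gW 7) 15) 15 = false := by decide +kernel

theorem three_dvd : 3 ∣ Nat.card (centralizer ({Z} : Set Cfsg.Spor.He)) := by
  have h7 : Fact (Nat.Prime 7) := ⟨by norm_num⟩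
  have h3 : Fact (Nat.Prime 3) := ⟨by norm_num⟩
  have hg : wd gW ^ 21 = 1 := by
    have h := eq_of_chkB chk_g
    rw [wd_pw] at h
    exact h
  have hu : wd uW * wd gW ^ 3 * (wd uW)⁻¹ = Z ^ 2 := by
    have h1 := eq_of_chkB chk_u
    rw [Cfsg.Agent.FixBN.HeCent.wd_append, Cfsg.Agent.FixBN.HeCent.wd_append, wd_pw, wd_pw] at h1
    rw [h1, mul_inv_cancel_right]
    rfl
  have hy : orderOf (wd gW ^ 7) = 3 := by
    refine orderOf_eq_prime (by rw [← pow_mul, hg]) ?_
    rw [← wd_pw]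
    exact CpAutHe.Seven.ne_one_of_act 15 act_g
  have hc : wd uW * wd gW ^ 7 * (wd uW)⁻¹ * Z ^ 2 = Z ^ 2 * (wd uW * wd gW ^ 7 * (wd uW)⁻¹) := by
    rw [← hu]
    group
  have hZ4 : Z = (Z ^ 2) ^ 4 := by
    rw [← pow_mul]
    calc Z = Z ^ 1 := (pow_one Z).symm
      _ = Z ^ 7 * Z ^ 1 := by rw [Z_pow, one_mul]
      _ = Z ^ (2 * 4) := by rw [← pow_add]
  have hc' : wd uW * wd gW ^ 7 * (wd uW)⁻¹ * Z = Z * (wd uW * wd gW ^ 7 * (wd uW)⁻¹) := by
    rw [hZ4]
    exact (Commute.pow_right (show Commute (wd uW * wd gW ^ 7 * (wd uW)⁻¹) (Z ^ 2) from hc) 4).eq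
  have h := Subgroup.orderOf_dvd_natCard _ (mem_centralizer_singleton_iff.2 hc' :
      wd uW * wd gW ^ 7 * (wd uW)⁻¹ ∈ centralizer ({Z} : Set Cfsg.Spor.He))
  rwa [orderOf_conj', hy] at h

theorem dvd_343 : 343 ∣ Nat.card (centralizer ({Z} : Set Cfsg.Spor.He)) := by
  rw [← card_P]
  apply card_dvd_of_le
  unfold P
  rw [sup_le_iff, sup_le_iff, zpowers_le, zpowers_le, zpowers_le]
  exact ⟨mem_centralizer_singleton_iff.2 comm_P₁_Z, mem_centralizer_singleton_iff.2 comm_P₂_Z,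
    mem_centralizer_singleton_iff.2 rfl⟩

theorem card_cases : Nat.card (centralizer ({Z} : Set Cfsg.Spor.He)) = 1029 ∨
    Nat.card (centralizer ({Z} : Set Cfsg.Spor.He)) = 2058 := by
  have : Finite Cfsg.Spor.He := Cfsg.Agent.H436.HeFive.finite_he
  have h1 : 1029 ∣ Nat.card (centralizer ({Z} : Set Cfsg.Spor.He)) :=
    Nat.Coprime.mul_dvd_of_dvd_of_dvd (by norm_num : Nat.Coprime 3 343) three_dvd dvd_343
  have h2 := card_Z
  have h3 : 0 < Nat.card (centralizer ({Z} : Set Cfsg.Spor.He)) := Nat.card_pos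
  obtain ⟨k, hk⟩ := h1
  omega

/-- **the elements of order 7 of `He`** -/
theorem seven {x : Cfsg.Spor.He} (hx : orderOf x = 7) :
    Ev x ∨ Nat.card (centralizer ({x} : Set Cfsg.Spor.He)) = 1029 := by
  have : Finite Cfsg.Spor.He := Cfsg.Agent.H436.HeFive.finite_he
  rcases seven_cases hx with h | ⟨g, hg⟩
  · exact Or.inl h
  · have hZ : orderOf Z = 7 := by
      have h7 : Fact (Nat.Prime 7) := ⟨by norm_num⟩
      exact orderOf_eq_prime Z_pow Z_ne
    -- the centralizers have the same order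
    have h1 : Z ∈ zpowers (g * x * g⁻¹) := by
      have h2 : zpowers (g * x * g⁻¹) = zpowers Z := by
        apply Subgroup.eq_of_le_of_card_ge
        · rwa [zpowers_le]
        · rw [Nat.card_zpowers, Nat.card_zpowers, orderOf_conj', hx, hZ]
      rw [h2]
      exact mem_zpowers _
    obtain ⟨m, hm⟩ := h1
    have hm' : (g * x * g⁻¹) ^ m = Z := hm
    have h3 : g⁻¹ * Z * g⁻¹⁻¹ ∈ zpowers x := by
      refine ⟨m, ?_⟩
      show x ^ m = _
      rw [← hm', conj_zpow]
      group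
    have h4 := card_cent_le hx hZ hg
    have h5 := card_cent_le hZ hx h3
    have h6 := le_antisymm h4 h5
    rcases card_cases with h7 | h7
    · exact Or.inr (h6.trans h7)
    · exact Or.inl (Ev.of_even (by rw [h6, h7]; norm_num))

end He

/-- `p = 5, 17`, .. -/
theorem facts_he {p : ℕ} (hp : p.Prime) (hp5 : 5 ≤ p) (hp7 : p ≠ 7) {G : Type u} [Group G] (h : Spor.IsoHe G) :
    Facts p G := by
  obtain ⟨e⟩ := h
  by_cases hd : p ∣ Nat.card G
  · rw [Nat.card_congr e.toEquiv, Cfsg.Agent.FixBN.HeStab.card_he] at hd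
    have h1 : p = 5 ∨ p = 17 := by
      have h2 : p ∣ 2 ^ 10 * 3 ^ 3 * 5 ^ 2 * 7 ^ 3 * 17 := by
        have e : 2 ^ 10 * 3 ^ 3 * 5 ^ 2 * 7 ^ 3 * 17 = 4030387200 := by norm_num
        rw [e]; exact hd
      have key : ∀ {q k : ℕ}, q.Prime → p ∣ q ^ k → p = q := fun hq h =>
        (Nat.prime_dvd_prime_iff_eq hp hq).1 (hp.dvd_of_dvd_pow h)
      rcases hp.dvd_mul.1 h2 with h2 | h2
      · rcases hp.dvd_mul.1 h2 with h2 | h2
        · rcases hp.dvd_mul.1 h2 with h2 | h2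
          · rcases hp.dvd_mul.1 h2 with h2 | h2
            · have := key Nat.prime_two h2; omega
            · have := key Nat.prime_three h2; omega
          · exact Or.inl (key Nat.prime_five h2)
        · exact absurd (key (by norm_num) h2) hp7
      · exact Or.inr ((Nat.prime_dvd_prime_iff_eq hp (by norm_num)).1 h2)
    rcases h1 with rfl | rfl
    · exact He.five.congr e.symm
    · exact He.seventeen.congr e.symm
  · exact fun x hx => absurd (hx ▸ orderOf_dvd_natCard x) hd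

/-- **the elements of order 7 of `He`** -/
theorem facts_he_seven {G : Type u} [Group G] (h : Spor.IsoHe G) {x : G} (hx : orderOf x = 7) :
    Ev x ∨ Nat.card (centralizer ({x} : Set G)) = 1029 := by
  obtain ⟨e⟩ := h
  rw [card_cent_equiv e x]
  rcases He.seven (x := e x) (by rw [MulEquiv.orderOf_eq, hx]) with ⟨z, hz, h1⟩ | h1
  · left
    refine ⟨e.symm z, by rw [MulEquiv.orderOf_eq, hz], ?_⟩
    apply e.injective
    rw [map_mul, map_mul, MulEquiv.apply_symm_apply, h1]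
  · exact Or.inr h1

end Cfsg.Agent.H14.Tor
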