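import Cfsg.Agent.H14.Tor.Cube
import Cfsg.Agent.H296.Fr.RowRu
import Cfsg.Agent.H461.T5.Ru

/-!
# S3235: the facts for `Ru` (helper14)
-/

set_option autoImplicit false

namespace Cfsg.Agent.H14.Tor

open Subgroup Cfsg Cfsg.Agent.H33.Tor

universe u

namespace Ru

open Cfsg.Agent.SporadicB Cfsg.Agent.SporadicB.RuOrder Cfsg.Agent.H436.TwoRu Cfsg.Agent.SporRec.TCUpperCert
open Cfsg.Agent.H461.T5.Ru (wa wb wc chk_a chk_b chk_c chk_ac chk_bc chk_ab pow_five P)
open Cfsg.Agent.KFacts.Ru Cfsg.Agent.KFacts.Ru.CentEng Cfsg.Agent.RuD.Letters Cfsg.Agent.Lib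

theorem le_of_dvd_3375 {c : ℕ} (h : c ∣ 2 ^ 14 * 3375) (hodd : Odd c) (h5 : ¬ 5 ^ 3 ∣ c) : c ≤ 675 := by
  have h1 : c ∣ 3375 := by
    have h3 : Nat.Coprime c (2 ^ 14) := (Nat.coprime_two_right.2 hodd).pow_right 14
    exact h3.dvd_of_dvd_mul_left h
  have h4 : c ∈ Nat.divisors 3375 := Nat.mem_divisors.2 ⟨h1, by norm_num⟩
  have h6 : ∀ c ∈ Nat.divisors 3375, ¬ 5 ^ 3 ∣ c → c ≤ 675 := by decide +kernel
  exact h6 c h4 h5

theorem card_invol (z : RuOrder.H) (hz : orderOf z = 2) : Nat.card (centralizer ({z} : Set RuOrder.H)) ≤ 245760 := by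
  have := finite_H
  obtain ⟨C, -, -⟩ := CpAutRuFive.exists_C
  have hzz : z * z = 1 := by rw [← pow_two, ← hz, pow_orderOf_eq_one]
  have hz1 : z ≠ 1 := by
    rintro rfl
    rw [orderOf_one] at hz
    omega
  have key : ∀ g a : RuOrder.H, g * a * g⁻¹ = z →
      Nat.card (centralizer ({z} : Set RuOrder.H)) = Nat.card (centralizer ({a} : Set RuOrder.H)) := by
    intro g a hg
    rw [← hg]
    exact (CpAutRuFive.card_conj g a a).1
  rcases Cfsg.Agent.KFacts.Ru.InvC.invol_cases' C (a := (1, 0)) (by decide) hzz hz1 with ⟨g, hg⟩ | ⟨g, hg⟩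
  · rw [key g _ hg, Cfsg.Agent.Ru127.Sg.card_cent C]
  · rw [key g _ hg]
    have h6 := Cfsg.Agent.Ru127.CardD.card_cent_v (C := C) (a := (1, 0)) (by decide)
    rw [top_inf_eq] at h6
    rw [h6]
    norm_num

theorem five : Facts 5 RuOrder.H := by
  have : Fact (Nat.Prime 5) := ⟨by norm_num⟩
  have : Finite RuOrder.H := finite_H
  have hac := eq_of_chkEq chk_ac
  have hbc := eq_of_chkEq chk_bc
  have hab := eq_of_chkEq chk_ab
  simp only [wprod_append] at hac hbc hab
  obtain ⟨C, hz, -⟩ := CpAutRuFive.exists_C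
  refine facts_of_central (p := 5) (by rw [RuOrder.card_H]; norm_num) (a := P wa) (b := P wb) (c := P wc)
    (t := wprod ml [1, 1]) (pow_five chk_a) (pow_five chk_b) (pow_five chk_c) ?_ hac hbc hab ?_
    CpAutRuFive.commA.symm (k := 1) (m := 675) (B := 245760) (by norm_num) RuOrder.card_H card_invol ?_ (by norm_num)
  · intro h
    have h2 := evalK_eq wc ⟨1, by norm_num⟩
    have h3 : (wprod ml wc : RuOrder.H) = 1 := h
    rw [h3] at h2
    exact Nat.ne_of_beq_eq_false Cfsg.Agent.H461.T5.Ru.chk_ne h2.symm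
  · rw [← hz]
    exact orderOf_eq_prime (by rw [pow_two]; exact C.z_sq 1) (fun h => one_ne_zero (C.z_eq_one h))
  · intro x hx hodd h3
    exact le_of_dvd_3375 (Cfsg.Agent.H296.Fr.Ru.cent35 x (Or.inr hx)) hodd h3

theorem seven : Facts 7 RuOrder.H := by
  have := finite_H
  exact Facts.even Cfsg.Agent.H296.Fr.Ru.even_seven

theorem dvd_self {G : Type u} [Group G] (x : G) : orderOf x ∣ Nat.card (centralizer ({x} : Set G)) := by
  have h3 : x ∈ centralizer ({x} : Set G) := mem_centralizer_singleton_iff.2 rfl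
  exact Subgroup.orderOf_dvd_natCard _ h3

theorem thirteen : Facts 13 RuOrder.H := by
  have := finite_H
  intro x hx
  have h1 := cent13 x hx
  have h2 := dvd_self x
  rw [hx] at h2
  obtain ⟨k, hk⟩ := h2
  rw [hk] at h1
  have h3 : k ∣ 4 := Nat.dvd_of_mul_dvd_mul_left (by norm_num) h1
  have h4 : k = 1 ∨ 2 ∣ k := by
    have h5 : k ∈ Nat.divisors 4 := Nat.mem_divisors.2 ⟨h3, by norm_num⟩
    have h6 : ∀ k ∈ Nat.divisors 4, k = 1 ∨ 2 ∣ k := by decide
    exact h6 k h5
  rcases h4 with rfl | h4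
  · exact Or.inr (Or.inl (Sm.of_card (by norm_num) (by norm_num) (by rw [hk]) (by rw [RuOrder.card_H]; norm_num)))
  · exact Or.inl (Ev.of_even (by rw [hk]; exact h4.mul_left _))

theorem twentynine : Facts 29 RuOrder.H :=
  Facts.self (by norm_num) (by norm_num) (fun x hx => Nat.dvd_antisymm (by simpa using cent29 x hx)
    (by have := dvd_self x; rwa [hx] at this)) (by rw [RuOrder.card_H]; norm_num)

end Ru

open Cfsg.Agent.SporadicB in
theorem facts_ru {p : ℕ} (hp : p.Prime) (hp5 : 5 ≤ p) {G : Type u} [Group G] (h : Spor.IsoRu G) : Facts p G := by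
  obtain ⟨e⟩ := h
  have e' : G ≃* RuOrder.H := e.trans RuLat.Main.equiv
  by_cases hd : p ∣ Nat.card G
  · rw [Nat.card_congr e'.toEquiv, RuOrder.card_H] at hd
    have h1 : p = 5 ∨ p = 7 ∨ p = 13 ∨ p = 29 := by
      have h2 : p ∣ 2 ^ 14 * 3 ^ 3 * 5 ^ 3 * 7 * 13 * 29 := by
        have e : 2 ^ 14 * 3 ^ 3 * 5 ^ 3 * 7 * 13 * 29 = 145926144000 := by norm_num
        rw [e]; exact hd
      have key : ∀ {q k : ℕ}, q.Prime → p ∣ q ^ k → p = q := fun hq h =>
        (Nat.prime_dvd_prime_iff_eq hp hq).1 (hp.dvd_of_dvd_pow h)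
      have key1 : ∀ {q : ℕ}, q.Prime → p ∣ q → p = q := fun hq h => (Nat.prime_dvd_prime_iff_eq hp hq).1 h
      rcases hp.dvd_mul.1 h2 with h2 | h2
      · rcases hp.dvd_mul.1 h2 with h2 | h2
        · rcases hp.dvd_mul.1 h2 with h2 | h2
          · rcases hp.dvd_mul.1 h2 with h2 | h2
            · rcases hp.dvd_mul.1 h2 with h2 | h2
              · have := key Nat.prime_two h2; omega
              · have := key Nat.prime_three h2; omega
            · exact Or.inl (key Nat.prime_five h2)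
          · exact Or.inr (Or.inl (key1 (by norm_num) h2))
        · exact Or.inr (Or.inr (Or.inl (key1 (by norm_num) h2)))
      · exact Or.inr (Or.inr (Or.inr (key1 (by norm_num) h2)))
    rcases h1 with rfl | rfl | rfl | rfl
    · exact Ru.five.congr e'.symm
    · exact Ru.seven.congr e'.symm
    · exact Ru.thirteen.congr e'.symm
    · exact Ru.twentynine.congr e'.symm
  · exact fun x hx => absurd (hx ▸ orderOf_dvd_natCard x) hd

end Cfsg.Agent.H14.Tor
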